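import Cfsg.Agent.H298.EP.VBridge
import Cfsg.Agent.H298.EP.VMach
import Cfsg.Agent.H892.EP.Chain

/-!
# S4929, `PSp_{2m}(q)`, `m` odd: `2 ≤ ord_p(q) ≤ m` (helper298, task 5324)
-/

set_option autoImplicit false
set_option linter.unusedSectionVars false

open Matrix Cfsg Cfsg.Agent.Characters.Core Cfsg.Agent.H892.EP

namespace Cfsg.Agent.H298.EP

open Cfsg.Agent.ChevalleyStructure.CoxeterGeom Cfsg.Agent.Tits.Roots Cfsg.Agent.Tits.Core
  Cfsg.Agent.Nodes Cfsg.Agent.Nodes.Reps Cfsg.Agent.Nodes.BNOf Cfsg.Agent.Nodes.StabComb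
  Cfsg.Agent.Nodes.Bruhat Cfsg.Agent.Nodes.OppDec Cfsg.Agent.Nodes.LeviDec
  Cfsg.Agent.Nodes.TypeC Cfsg.Agent.Nodes.WittRoot Cfsg.Agent.TitsThree Cfsg.Agent.TitsThree.WittFrame
  Cfsg.Agent.Nodes.WittAll Cfsg.Agent.TitsThree.WBridge Cfsg.Agent.H53.HC
open Cfsg.Agent.TitsThree.SpIdent (form frame e f toSp isos mat coe_toSp toPSp)
open Cfsg.Agent.LieRecognition.BNCox (cA)

variable {F : Type} [Field F] [Fintype F]

theorem card_X_sr {m : ℕ} (i : Fin m) (hi : (i : ℕ) + 1 < m) :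
    Nat.card (WittModel.X (KInstSp.model m F) (sr i)) = Fintype.card F := by
  have hnx : nx i = (⟨i + 1, hi⟩, false) := by unfold nx; rw [dif_pos hi]
  have hne : ((i, true) : Fin m × Bool).1 ≠ (nx i).1 := by rw [hnx]; simp [Fin.ext_iff]
  have hrg : rg (frame m F) (sr i) = XG (frame m F) (i, true) (nx i) := by
    rw [WittRGD.rg_sr, PG_ne _ hne]
  let φ : F → WittModel.X (KInstSp.model m F) (sr i) := fun t =>
    ⟨toPSp ⟨(frame m F).X (i, true) (nx i) t, (frame m F).isIso_X _ _ _⟩,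
      WittModel.mem_X_of (KInstSp.model m F) _ (by rw [hrg]; exact ⟨t, rfl⟩)⟩
  have hφ : Function.Bijective φ := by
    constructor
    · intro s t hst
      have h1 : toPSp ⟨(frame m F).X (i, true) (nx i) s, (frame m F).isIso_X _ _ _⟩ =
        toPSp ⟨(frame m F).X (i, true) (nx i) t, (frame m F).isIso_X _ _ _⟩ := congrArg Subtype.val hst
      have h2 : toPSp (⟨(frame m F).X (i, true) (nx i) (s + -t), (frame m F).isIso_X _ _ _⟩ : isos (form m F)) = 1 := by
        have e1 : (⟨(frame m F).X (i, true) (nx i) (s + -t), (frame m F).isIso_X _ _ _⟩ : isos (form m F)) =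
            ⟨(frame m F).X (i, true) (nx i) s, (frame m F).isIso_X _ _ _⟩ *
              (⟨(frame m F).X (i, true) (nx i) t, (frame m F).isIso_X _ _ _⟩)⁻¹ := by
          apply Subtype.ext
          show (frame m F).X (i, true) (nx i) (s + -t) = (frame m F).X (i, true) (nx i) s * ((frame m F).X (i, true) (nx i) t)⁻¹
          rw [(frame m F).X_add, (frame m F).X_neg]
        rw [e1, map_mul, map_inv, h1, mul_inv_cancel]
      obtain ⟨a, -, ha⟩ := SpIdent.exists_smul_of_toPSp_eq_one h2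
      have h3 := ha ((frame m F).b (i, true))
      have h4 : (frame m F).X (i, true) (nx i) (s + -t) ((frame m F).b (i, true)) = (frame m F).b (i, true) := by
        refine WittWeyl.X_apply_of_ne (frame m F) hne (by simp [WittFrame.neg]) ?_ _
        rw [hnx]
        simp [WittFrame.neg, Fin.ext_iff]
      have hb : (frame m F).b (i, true) (Sum.inr i) = 1 := by
        show SpIdent.e m F i (Sum.inr i) = 1
        rw [SpIdent.e, Pi.single_eq_same]
      have ha1 : a = 1 := by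
        have h5 := congrFun (h3.symm.trans h4) (Sum.inr i)
        rw [Pi.smul_apply, hb, smul_eq_mul, mul_one] at h5
        exact h5
      subst ha1
      have h5 := ha ((frame m F).b (WittFrame.neg (nx i)))
      have h6 : (frame m F).X (i, true) (nx i) (s + -t) ((frame m F).b (WittFrame.neg (nx i))) =
          (frame m F).b (WittFrame.neg (nx i)) + (s + -t) • (frame m F).b (i, true) :=
        WittWeyl.X_apply_neg (frame m F) hne _
      have h7 : (s + -t) • (frame m F).b (i, true) = 0 := by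
        have h8 := h6.symm.trans h5
        rw [_root_.one_smul] at h8
        exact add_eq_left.1 h8
      have h9 := congrFun h7 (Sum.inr i)
      rw [Pi.smul_apply, hb, smul_eq_mul, mul_one] at h9
      rw [← sub_eq_add_neg] at h9
      exact sub_eq_zero.1 h9
    · rintro ⟨y, hy⟩
      obtain ⟨g, hg, hgx, rfl⟩ := (WittModel.mem_X (KInstSp.model m F)).1 hy
      rw [hrg] at hgx
      obtain ⟨t, rfl⟩ := hgx
      exact ⟨t, rfl⟩
  rw [← Nat.card_congr (Equiv.ofBijective φ hφ), Nat.card_eq_fintype_card]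

/-- **`2 ≤ ord_p(q) ≤ m`** -/
theorem evAt_mid {r : ℕ} [Fact r.Prime] [CharP F r] (hr : r ≠ 2) {m : ℕ} (hm : 3 ≤ m) (hm2 : Odd m) {p d : ℕ}
    [Fact p.Prime] (hd : 2 ≤ d) (hdm : d ≤ m) (h1 : p ∣ Fintype.card F ^ d - 1)
    (h2 : ∀ i, 0 < i → i < d → ¬ p ∣ Fintype.card F ^ i - 1) : EvAt p (PSp m F) := by
  obtain ⟨k, rfl⟩ : ∃ k, m = k + 1 := ⟨m - 1, by omega⟩
  have hfin : Finite (PSp (k + 1) F) := Quotient.finite _
  have hfinW := finite_W (CoxeterMatrix.B (k + 1)).toCoxeterSystem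
  have hV : Finite (Fin (k + 1) ⊕ Fin (k + 1) → F) := inferInstance
  have R := rgdC_model (KInstSp.model (k + 1) F) (AmbT.of_amb WittU.amb_Sp r) (p0 := SpIdent.adm 1) one_ne_zero
    (CoxeterMatrix.B (k + 1)).toCoxeterSystem
  have hG1 := WittModel.G1_eq_top (KInstSp.model (k + 1) F) (Nat.succ_pos k) (CoxeterMatrix.B (k + 1)).toCoxeterSystem
  have hG : GG (CoxeterMatrix.B (k + 1)).toCoxeterSystem (isCartan (k + 1)) (WittModel.T (KInstSp.model (k + 1) F))
      (WittModel.X (KInstSp.model (k + 1) F)) = ⊤ := Cfsg.Agent.KFacts.RgdFilt.GG_eq_top hG1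
  let κ : Fin (d - 1) ↪ Fin (k + 1) := ⟨fun i => ⟨i, by omega⟩, fun i j hij => Fin.ext (by simpa using hij)⟩
  have hκ : ∀ i, ((κ i : Fin (k + 1)) : ℕ) = i := fun i => rfl
  have hB : ∀ i j : Fin (k + 1), i ≠ j → CoxeterMatrix.B (k + 1) i j =
      if (i : ℕ) = k ∧ (j : ℕ) = k - 1 ∨ (j : ℕ) = k ∧ (i : ℕ) = k - 1
        then 4 else (if (j : ℕ) + 1 = i ∨ (i : ℕ) + 1 = j then 3 else 2) := by
    intro i j hij
    show (if i = j then 1 else _) = _
    rw [if_neg hij]
    rfl
  have hgood : Good p r ↥(MJ (CoxeterMatrix.B (k + 1)).toCoxeterSystem (isCartan (k + 1))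
      (WittModel.X (KInstSp.model (k + 1) F)) (Set.range κ)) := by
    refine good_MJ_of_chain R (by omega) κ ?_ ?_ (q := Fintype.card F) ?_ ?_ ?_
    · intro i j
      by_cases hij : i = j
      · subst hij
        rw [(CoxeterMatrix.B (k + 1)).diagonal, (cA (d - 1)).diagonal]
      · rw [hB _ _ (fun h => hij (κ.injective h)), hκ, hκ]
        have hij' : (i : ℕ) ≠ j := fun h => hij (Fin.ext h)
        have hi := i.2
        have hj := j.2
        rw [Cfsg.Agent.LieRecognition.BNCox.cA_apply]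
        unfold Cfsg.Agent.LieRecognition.CoxClass.mA
        split_ifs <;> omega
    · intro hd1
      refine ⟨⟨0, by omega⟩, ⟨1, by omega⟩, rfl, ?_⟩
      rw [hB _ _ (by simp [Fin.ext_iff, κ]), hκ]
      have h0 : ((⟨0, by omega⟩ : Fin (d - 1)) : ℕ) = 0 := rfl
      have h1 : ((⟨1, by omega⟩ : Fin (k + 1)) : ℕ) = 1 := rfl
      rw [h0, h1, if_neg (by omega), if_pos (by omega)]
    · exact card_X_sr _ (by rw [hκ]; simp; omega)
    · rw [show d - 1 + 1 = d by omega]
      exact h1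
    · intro i hi hid
      exact h2 i hi (by omega)
  intro M hM
  have hlast : ¬ (((Fin.last k : Fin (k + 1)) : ℕ) + 1 < k + 1) := by simp
  obtain ⟨χ, hχ, hno⟩ := exists_noFix_VJ R hG (Set.range κ) {Fin.last k} (fun w x hx hx' => by
    obtain ⟨hr, h0, hs⟩ := hx
    have e1 : x = sr (Fin.last k) := hr.eq_sr h0 _ fun j hj => hs j hj
    rw [e1] at hx'
    refine rep_last (cs := (CoxeterMatrix.B (k + 1)).toCoxeterSystem) w (Fin.last k) hlast (hx'.2 _ ?_)
    rintro ⟨i, hi⟩
    have h3 := congrArg (fun z : Fin (k + 1) => (z : ℕ)) hi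
    simp only [hκ, Fin.val_last] at h3
    have := i.2
    omega) hgood hM
  refine ⟨χ, hχ, even_of_noFix hr (by omega) ?_ _ χ hno⟩
  obtain ⟨j, hj⟩ := hm2
  exact ⟨j, by omega⟩

end Cfsg.Agent.H298.EP
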