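import Cfsg.Agent.H65.EP.SpUni
import Cfsg.Agent.ClassicalGeometry.SympBasic
import Cfsg.Agent.H53.HC.Rgd
import Cfsg.Agent.H892.EP.Rows
import Cfsg.Agent.CharDeep.LinearChar
import Cfsg.Agent.H188.EP.RestPsp

/-!
# S4929, `PSp_{2m}(q)`, `m` odd, `q ≡ 3 mod 4`, `p ∣ q - 1` (helper298, task 5324)

The character of `Sp_{2m}(q)` induced from a linear character `θ(det)` of `p`-power order of the stabiliser `P` of a
maximal isotropic subspace is irreducible, in the principal `p`-block, of even degree `|G : P|`.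
-/

set_option autoImplicit false
set_option linter.unusedSectionVars false

open scoped ComplexConjugate
open Matrix Cfsg Cfsg.Agent.Characters.Core Cfsg.Agent.H892.EP

namespace Cfsg.Agent.H298.EP

universe u v

section abs

open Cfsg.Agent.OddOrderCharacters.Clifford Cfsg.Agent.H53.HC

variable {G : Type u} [Group G] [Finite G]

theorem conj_unit {z : ℂˣ} {n : ℕ} (hn : n ≠ 0) (h : z ^ n = 1) : conj (z : ℂ) = ((z⁻¹ : ℂˣ) : ℂ) := by
  have h1 : ‖(z : ℂ)‖ = 1 := by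
    refine Complex.norm_eq_one_of_pow_eq_one (n := n) ?_ hn
    rw [← Units.val_pow_eq_pow_val, h, Units.val_one]
  rw [Units.val_inv_eq_inv_val, Complex.inv_def, Complex.normSq_eq_norm_sq, h1]
  simp

/-- **Mackey's criterion** for linear characters. -/
theorem irr_ind_linear [Fintype G] (P : Subgroup G) (lam : P →* ℂˣ)
    (h : ∀ x : G, x ∉ P → ∃ (g : G) (h1 : g ∈ P) (h2 : x⁻¹ * g * x ∈ P), lam ⟨g, h1⟩ ≠ lam ⟨x⁻¹ * g * x, h2⟩) :
    IsIrrCharacter G (indFun P (fun t => (lam t : ℂ))) := by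
  refine isIrr_indFun_rep P (Cfsg.Agent.CharDeep.LinearChar.isIrrCharacter_of_hom lam) fun x hx => ?_
  refine ⟨1, one_mem _, 1, one_mem _, x, by group, P ⊓ P.comap (MulAut.conj x⁻¹).toMonoidHom, inf_le_left, ?_, ?_⟩
  · rintro l ⟨-, hl⟩
    have h1 : x⁻¹ * l * x⁻¹⁻¹ ∈ P := hl
    rwa [inv_inv] at h1
  · intro hL
    have hc : ∀ l : ↥(P ⊓ P.comap (MulAut.conj x⁻¹).toMonoidHom), x⁻¹ * (l : G) * x ∈ P := by
      rintro ⟨l, -, hl⟩
      have h1 : x⁻¹ * l * x⁻¹⁻¹ ∈ P := hl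
      rwa [inv_inv] at h1
    let μ : ↥(P ⊓ P.comap (MulAut.conj x⁻¹).toMonoidHom) →* ℂ :=
      { toFun := fun l => (lam ⟨l, l.2.1⟩ : ℂ) * conj (lam ⟨x⁻¹ * l * x, hc l⟩ : ℂ)
        map_one' := by
          have e1 : (⟨((1 : ↥(P ⊓ P.comap (MulAut.conj x⁻¹).toMonoidHom)) : G), one_mem P⟩ : P) = 1 := rfl
          have e2 : (⟨x⁻¹ * ((1 : ↥(P ⊓ P.comap (MulAut.conj x⁻¹).toMonoidHom)) : G) * x, hc 1⟩ : P) = 1 := by
            apply Subtype.ext
            show x⁻¹ * 1 * x = 1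
            group
          rw [e1, e2, map_one, Units.val_one, map_one, one_mul]
        map_mul' := by
          intro a b
          have e1 : (⟨((a * b : ↥(P ⊓ P.comap (MulAut.conj x⁻¹).toMonoidHom)) : G), (a * b).2.1⟩ : P) =
              ⟨a, a.2.1⟩ * ⟨b, b.2.1⟩ := rfl
          have e2 : (⟨x⁻¹ * ((a * b : ↥(P ⊓ P.comap (MulAut.conj x⁻¹).toMonoidHom)) : G) * x, hc (a * b)⟩ : P) =
              ⟨x⁻¹ * a * x, hc a⟩ * ⟨x⁻¹ * b * x, hc b⟩ := by
            apply Subtype.ext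
            show x⁻¹ * (a * b) * x = (x⁻¹ * a * x) * (x⁻¹ * b * x)
            group
          rw [e1, e2, map_mul, map_mul, Units.val_mul, Units.val_mul, map_mul]
          ring }
    have hμ : μ ≠ 1 := by
      intro h1
      obtain ⟨g, hg, hg', hne⟩ := h x hx
      apply hne
      have hgL : g ∈ P ⊓ P.comap (MulAut.conj x⁻¹).toMonoidHom := by
        refine ⟨hg, ?_⟩
        show x⁻¹ * g * x⁻¹⁻¹ ∈ P
        rwa [inv_inv]
      have h2 : μ ⟨g, hgL⟩ = 1 := by rw [h1]; rfl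
      have h3 : (lam ⟨g, hg⟩ : ℂ) * conj (lam ⟨x⁻¹ * g * x, hg'⟩ : ℂ) = 1 := h2
      rw [conj_unit (n := Nat.card P) Nat.card_pos.ne' (by rw [← map_pow, pow_card_eq_one', map_one]),
        ← Units.val_mul, Units.val_eq_one, mul_inv_eq_one] at h3
      exact h3
    exact sum_hom_units_eq_zero μ hμ

/-- linear characters of `p`-power order are in the principal block -/
theorem mem_block_of_linear {p : ℕ} [Fact p.Prime] {M : Ideal AlgInt} (hM : IsPModular p M) (lam : G →* ℂˣ) {k : ℕ}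
    (hk : ∀ t, lam t ^ p ^ k = 1) :
    (⟨fun t => (lam t : ℂ), Cfsg.Agent.CharDeep.LinearChar.isIrrCharacter_of_hom lam⟩ : IrrCharacter G) ∈
      principalBlock M G := by
  refine mem_of_regSum hM _ ?_
  have h1 : ∀ x : G, ¬ p ∣ orderOf x → (lam x : ℂ) = 1 := by
    intro x hx
    have h2 : orderOf (lam x) = 1 := by
      refine Nat.eq_one_of_dvd_coprimes (a := orderOf x) (b := p ^ k) ?_ ?_ (orderOf_dvd_of_pow_eq_one (hk _))
      · exact Nat.Coprime.pow_right _ ((Nat.Prime.coprime_iff_not_dvd Fact.out).2 hx).symm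
      · exact orderOf_dvd_of_pow_eq_one (by rw [← map_pow, pow_orderOf_eq_one, map_one])
    rw [orderOf_eq_one_iff.1 h2, Units.val_one]
  rw [finsum_mem_congr (s := {x : G | ¬ p ∣ orderOf x}) rfl fun x hx => h1 x hx,
    finsum_mem_eq_finite_toFinset_sum _ (Set.toFinite _), Finset.sum_const,
    nsmul_eq_mul, mul_one, Ne, Nat.cast_eq_zero, Finset.card_eq_zero, ← Ne, ← Finset.nonempty_iff_ne_empty]
  refine ⟨1, ?_⟩
  rw [Set.Finite.mem_toFinset]
  show ¬ p ∣ orderOf (1 : G)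
  rw [orderOf_one]
  exact (Fact.out : p.Prime).one_lt.ne' ∘ Nat.dvd_one.1

theorem evAt_of_ind {p : ℕ} [Fact p.Prime] (P : Subgroup G) (lam : P →* ℂˣ) {k : ℕ} (hk : ∀ t, lam t ^ p ^ k = 1)
    (h : ∀ x : G, x ∉ P → ∃ (g : G) (h1 : g ∈ P) (h2 : x⁻¹ * g * x ∈ P), lam ⟨g, h1⟩ ≠ lam ⟨x⁻¹ * g * x, h2⟩)
    (h2 : 2 ∣ P.index) : EvAt p G := by
  intro M hM
  have := Fintype.ofFinite G
  have := Fintype.ofFinite P
  obtain ⟨χ, hχ, h1⟩ := exists_over hM P _ (mem_block_of_linear hM lam hk)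
  have hirr := irr_ind_linear P lam h
  have heq : (χ : G → ℂ) = indFun P (fun t => (lam t : ℂ)) := by
    by_contra hne
    have h3 := classInner_irr_ne hirr χ.2 (Ne.symm hne)
    rw [classInner_indFun P _ _ (isIrr_isClassFunction χ.2)] at h3
    apply h1
    have h4 := classInner_conj_symm (fun t : P => (χ : G → ℂ) t) (fun t : P => (lam t : ℂ))
    rw [h3] at h4
    exact (map_eq_zero _).1 h4
  refine ⟨χ, hχ, ?_⟩
  have h3 : charDegree (χ : G → ℂ) = P.index := by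
    apply Cfsg.Agent.Blocks.Basic.charDegree_of_eq
    rw [heq, indFun_one, map_one, Units.val_one, mul_one]
  rw [h3]
  exact h2

/-- to a quotient by a `p'`-subgroup -/
theorem evAt_quot {L : Type v} [Group L] [Finite L] {p : ℕ} [Fact p.Prime] (f : G →* L) (hf : Function.Surjective f)
    (hk : ¬ p ∣ Nat.card f.ker) (h : EvAt p G) : EvAt p L := by
  intro M hM
  obtain ⟨χ, hχ, h2⟩ := h M hM
  obtain ⟨ψ, hψ, he⟩ := Cfsg.Agent.Blocks.PrincipalInflate.exists_comp hM hf hk hχ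
  refine ⟨ψ, hψ, ?_⟩
  have h3 : charDegree (ψ : L → ℂ) = charDegree (χ : G → ℂ) := by
    apply Cfsg.Agent.Blocks.Basic.charDegree_of_eq
    rw [← Cfsg.Agent.Blocks.Basic.irr_one_eq_charDegree χ.2, he]
    show _ = (ψ : L → ℂ) (f 1)
    rw [map_one]
  rw [h3]
  exact h2

end abs

section sp

open Cfsg.Agent.ClassicalGeometry.SympBasic Cfsg.Agent.H65.EP.PSp

variable {F : Type} [Field F] [Fintype F] {m : ℕ}

/-- `u ↦ c u`, `u' ↦ c⁻¹ u'`, the identity on `⟨u, u'⟩ᗮ` (if `f(u, u') = 1`) -/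
def hyp (u u' : Fin m ⊕ Fin m → F) (c : F) : Matrix (Fin m ⊕ Fin m) (Fin m ⊕ Fin m) F :=
  1 + (c - 1) • vecMulVec u (Matrix.J (Fin m) F *ᵥ u') - (c⁻¹ - 1) • vecMulVec u' (Matrix.J (Fin m) F *ᵥ u)

theorem hyp_mulVec (u u' z : Fin m ⊕ Fin m → F) (c : F) :
    hyp u u' c *ᵥ z = z + ((c - 1) * sympForm m F z u') • u - ((c⁻¹ - 1) * sympForm m F z u) • u' := by
  rw [hyp, Matrix.sub_mulVec, Matrix.add_mulVec, Matrix.one_mulVec, Matrix.smul_mulVec, Matrix.smul_mulVec,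
    Matrix.vecMulVec_mulVec, Matrix.vecMulVec_mulVec, sympForm_def, sympForm_def, dotProduct_comm z, dotProduct_comm z]
  ext i
  simp only [Pi.add_apply, Pi.sub_apply, Pi.smul_apply, MulOpposite.smul_eq_mul_unop, MulOpposite.unop_op,
    smul_eq_mul]
  ring

theorem hyp_mem {u u' : Fin m ⊕ Fin m → F} {c : F} (hc : c ≠ 0) (h : sympForm m F u u' = 1) :
    hyp u u' c ∈ Matrix.symplecticGroup (Fin m) F := by
  rw [mem_symplecticGroup_iff]
  intro x y
  have h' : sympForm m F u' u = -1 := by rw [sympForm_swap, h]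
  rw [hyp_mulVec, hyp_mulVec]
  simp only [sympForm_sub_left, sympForm_sub_right, sympForm_add_left, sympForm_add_right, sympForm_smul_left,
    sympForm_smul_right, sympForm_self, h, h']
  rw [sympForm_swap u y, sympForm_swap u' y]
  field_simp
  ring

/-- the hyperbolic element -/
def hypS (u u' : Fin m ⊕ Fin m → F) (c : F) (hc : c ≠ 0) (h : sympForm m F u u' = 1) : Sp m F := ⟨hyp u u' c, hyp_mem hc h⟩

theorem conj_hypS (x : Sp m F) (u u' : Fin m ⊕ Fin m → F) (c : F) (hc : c ≠ 0) (h : sympForm m F (x.1 *ᵥ u) (x.1 *ᵥ u') = 1) :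
    x⁻¹ * hypS (x.1 *ᵥ u) (x.1 *ᵥ u') c hc h * x = hypS u u' c hc (by rwa [sympForm_mulVec x.2] at h) := by
  rw [mul_assoc, inv_mul_eq_iff_eq_mul]
  apply Subtype.ext
  rw [← Matrix.mulVec_injective.eq_iff]
  funext z
  show (hyp (x.1 *ᵥ u) (x.1 *ᵥ u') c * x.1) *ᵥ z = (x.1 * hyp u u' c) *ᵥ z
  rw [← Matrix.mulVec_mulVec, ← Matrix.mulVec_mulVec, hyp_mulVec, hyp_mulVec, sympForm_mulVec x.2, sympForm_mulVec x.2,
    Matrix.mulVec_sub, Matrix.mulVec_add, Matrix.mulVec_smul, Matrix.mulVec_smul]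

theorem hyp_inl_inl {u u' : Fin m ⊕ Fin m → F} (hu : ∀ i, u (Sum.inr i) = 0) (c : F) :
    (hyp u u' c).toBlocks₁₁ = 1 + Matrix.of fun i j => u (Sum.inl i) * -((c - 1) * u' (Sum.inr j)) := by
  ext i j
  simp only [Matrix.toBlocks₁₁, hyp, Matrix.of_apply, Matrix.sub_apply, Matrix.add_apply, Matrix.smul_apply,
    Matrix.vecMulVec_apply, J_mulVec_inl, hu, smul_eq_mul, Matrix.one_apply, Sum.inl.injEq]
  ring

theorem det_one_add_of (u v : Fin m → F) : (1 + Matrix.of fun i j => u i * v j).det = 1 + v ⬝ᵥ u := by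
  rw [← Matrix.det_one_add_replicateCol_mul_replicateRow (ι := Unit) u v]
  congr 2
  ext i j
  rw [Matrix.mul_apply, Fintype.sum_unique]
  rfl

theorem hyp_inr_inl {u u' : Fin m ⊕ Fin m → F} (hu : ∀ i, u (Sum.inr i) = 0) (c : F) :
    (hyp u u' c).toBlocks₂₁ = 0 := by
  ext i j
  simp only [Matrix.toBlocks₂₁, hyp, Matrix.of_apply, Matrix.sub_apply, Matrix.add_apply, Matrix.smul_apply,
    Matrix.vecMulVec_apply, J_mulVec_inl, hu, smul_eq_mul, Matrix.one_apply, reduceCtorEq, if_false, Matrix.zero_apply]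
  ring

theorem det_hyp {u u' : Fin m ⊕ Fin m → F} (hu : ∀ i, u (Sum.inr i) = 0) (c : F) (h : sympForm m F u u' = 1) :
    (hyp u u' c).toBlocks₁₁.det = c := by
  rw [hyp_inl_inl hu, det_one_add_of]
  rw [sympForm_eq_sum] at h
  have h1 : ∑ i : Fin m, u' (Sum.inr i) * u (Sum.inl i) = -1 := by
    rw [← neg_eq_iff_eq_neg, ← Finset.sum_neg_distrib, ← h]
    refine Finset.sum_congr rfl fun i _ => ?_
    rw [hu]
    ring
  have h2 : (fun j => -((c - 1) * u' (Sum.inr j))) ⬝ᵥ (fun i => u (Sum.inl i)) =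
      -(c - 1) * ∑ i : Fin m, u' (Sum.inr i) * u (Sum.inl i) := by
    rw [dotProduct, Finset.mul_sum]
    refine Finset.sum_congr rfl fun i _ => ?_
    ring
  rw [h2, h1]
  ring

theorem hyp_swap {u u' : Fin m ⊕ Fin m → F} (c : F) : hyp u u' c = hyp u' (-u) c⁻¹ := by
  rw [← Matrix.mulVec_injective.eq_iff]
  funext z
  rw [hyp_mulVec, hyp_mulVec, sympForm_neg_right, inv_inv]
  module

/-- the stabiliser of a maximal isotropic subspace -/
def PP (m : ℕ) (F : Type) [Field F] [Fintype F] : Subgroup (Sp m F) := ofSub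
  { carrier := {g | g.1.toBlocks₂₁ = 0}
    one_mem' := by
      show (1 : Matrix (Fin m ⊕ Fin m) (Fin m ⊕ Fin m) F).toBlocks₂₁ = 0
      rw [← Matrix.fromBlocks_one, Matrix.toBlocks_fromBlocks₂₁]
    mul_mem' := by
      intro g h hg hh
      show (g.1 * h.1).toBlocks₂₁ = 0
      have hg' : g.1.toBlocks₂₁ = 0 := hg
      have hh' : h.1.toBlocks₂₁ = 0 := hh
      rw [← Matrix.fromBlocks_toBlocks g.1, ← Matrix.fromBlocks_toBlocks h.1, Matrix.fromBlocks_multiply,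
        Matrix.toBlocks_fromBlocks₂₁, hg', hh']
      simp }

theorem mem_PP {g : Sp m F} : g ∈ PP m F ↔ g.1.toBlocks₂₁ = 0 := Iff.rfl

theorem hypS_mem_left {u u' : Fin m ⊕ Fin m → F} (hu : ∀ i, u (Sum.inr i) = 0) (c : F) (hc : c ≠ 0)
    (h : sympForm m F u u' = 1) : hypS u u' c hc h ∈ PP m F := hyp_inr_inl hu c

theorem hypS_mem_right {u u' : Fin m ⊕ Fin m → F} (hu : ∀ i, u' (Sum.inr i) = 0) (c : F) (hc : c ≠ 0)
    (h : sympForm m F u u' = 1) : hypS u u' c hc h ∈ PP m F := by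
  show (hyp u u' c).toBlocks₂₁ = 0
  rw [hyp_swap]
  exact hyp_inr_inl hu _

/-- the determinant on the maximal isotropic subspace -/
noncomputable def dt : PP m F →* Fˣ := MonoidHom.toHomUnits
  { toFun := fun g => g.1.1.toBlocks₁₁.det
    map_one' := by
      show (1 : Matrix (Fin m ⊕ Fin m) (Fin m ⊕ Fin m) F).toBlocks₁₁.det = 1
      rw [← Matrix.fromBlocks_one, Matrix.toBlocks_fromBlocks₁₁, Matrix.det_one]
    map_mul' := by
      rintro ⟨g, hg⟩ ⟨h, hh⟩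
      show (g.1 * h.1).toBlocks₁₁.det = g.1.toBlocks₁₁.det * h.1.toBlocks₁₁.det
      have hg' : g.1.toBlocks₂₁ = 0 := hg
      have hh' : h.1.toBlocks₂₁ = 0 := hh
      conv_lhs => rw [← Matrix.fromBlocks_toBlocks g.1, ← Matrix.fromBlocks_toBlocks h.1, Matrix.fromBlocks_multiply,
        Matrix.toBlocks_fromBlocks₁₁, hh']
      rw [Matrix.mul_zero, add_zero, Matrix.det_mul] }

theorem dt_apply (g : PP m F) : ((dt g : Fˣ) : F) = g.1.1.toBlocks₁₁.det := rfl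

theorem exists_hyp {x : Sp m F} (hx : x ∉ PP m F) (c : Fˣ) :
    ∃ (g : Sp m F) (h1 : g ∈ PP m F) (h2 : x⁻¹ * g * x ∈ PP m F), dt ⟨g, h1⟩ = c ∧ dt ⟨x⁻¹ * g * x, h2⟩ = c⁻¹ := by
  -- vectors `u` in `W`, `x u'` with `u' ∈ W`, `f(u, x u') = 1`
  obtain ⟨i, j, hij⟩ : ∃ i j, x.1 (Sum.inr i) (Sum.inl j) ≠ 0 := by
    by_contra hcon
    push Not at hcon
    apply hx
    rw [mem_PP]
    ext i j
    exact hcon i j
  set u' : Fin m ⊕ Fin m → F := Pi.single (Sum.inl j) 1 with hu'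
  set y : Fin m ⊕ Fin m → F := x.1⁻¹ *ᵥ ((-(x.1 (Sum.inr i) (Sum.inl j))⁻¹) • Pi.single (Sum.inl i) 1) with hy
  have hdet : IsUnit x.1.det := SymplecticGroup.symplectic_det x.2
  have hxy : x.1 *ᵥ y = (-(x.1 (Sum.inr i) (Sum.inl j))⁻¹) • Pi.single (Sum.inl i) 1 := by
    rw [hy, Matrix.mulVec_mulVec, Matrix.mul_nonsing_inv _ hdet, Matrix.one_mulVec]
  have hxu : ∀ a, (x.1 *ᵥ u') a = x.1 a (Sum.inl j) := by
    intro a
    rw [hu', Matrix.mulVec_single_one]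
    rfl
  have hB : sympForm m F (x.1 *ᵥ y) (x.1 *ᵥ u') = 1 := by
    rw [hxy, sympForm_smul_left, sympForm_single_inl_left, hxu]
    field_simp
  have h1 : ∀ a, (x.1 *ᵥ y) (Sum.inr a) = 0 := by
    intro a
    rw [hxy, Pi.smul_apply, Pi.single_eq_of_ne (by simp), smul_zero]
  have h2 : ∀ a, u' (Sum.inr a) = 0 := by
    intro a
    rw [hu', Pi.single_eq_of_ne (by simp)]
  have hB' : sympForm m F y u' = 1 := by rwa [sympForm_mulVec x.2] at hB
  have hP1 := hypS_mem_left h1 (c : F) c.ne_zero hB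
  have e := conj_hypS x y u' (c : F) c.ne_zero hB
  have hP2 : x⁻¹ * hypS (x.1 *ᵥ y) (x.1 *ᵥ u') (c : F) c.ne_zero hB * x ∈ PP m F := by
    rw [e]
    exact hypS_mem_right h2 _ _ _
  refine ⟨_, hP1, hP2, ?_, ?_⟩
  · apply Units.ext
    rw [dt_apply]
    exact det_hyp h1 _ hB
  · apply Units.ext
    rw [dt_apply]
    show ((x⁻¹ * hypS (x.1 *ᵥ y) (x.1 *ᵥ u') (c : F) c.ne_zero hB * x).1.toBlocks₁₁).det = _
    rw [e]
    show (hyp y u' (c : F)).toBlocks₁₁.det = _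
    rw [hyp_swap, det_hyp h2 _ (by rw [sympForm_neg_right, sympForm_swap, neg_neg, hB']), Units.val_inv_eq_inv_val]

/-- the stabiliser of a maximal isotropic subspace has even index -/
theorem two_dvd_index (hm : Odd m) (hq : Fintype.card F % 4 = 3) : 2 ∣ (PP m F).index := by
  by_contra hcon
  have hns : ¬ IsSquare (-1 : F) := by
    rw [FiniteField.isSquare_neg_one_iff]
    simp [hq]
  let j : Sp m F := ⟨fromBlocks 0 1 (-1) 0, by
    rw [SymplecticGroup.fromBlocks_mem_iff]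
    simp⟩
  have hj2 : (j * j).1 = -1 := by
    show fromBlocks 0 1 (-1) 0 * fromBlocks 0 1 (-1) 0 = (-1 : Matrix (Fin m ⊕ Fin m) (Fin m ⊕ Fin m) F)
    rw [Matrix.fromBlocks_multiply, ← Matrix.fromBlocks_one, Matrix.fromBlocks_neg]
    simp
  have hj4 : j ^ 2 ^ 2 = 1 := by
    apply Subtype.ext
    have e : j ^ 2 ^ 2 = (j * j) * (j * j) := by simp only [show (2 : ℕ) ^ 2 = 4 from rfl, pow_succ, pow_zero, one_mul, mul_assoc]
    rw [e]
    show (j * j).1 * (j * j).1 = 1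
    rw [hj2]
    simp
  have hZ : IsPGroup 2 (Subgroup.zpowers j) := by
    rintro ⟨_, n, rfl⟩
    refine ⟨2, Subtype.ext ?_⟩
    show (j ^ n) ^ 2 ^ 2 = 1
    rw [← zpow_natCast, ← _root_.zpow_mul, mul_comm, _root_.zpow_mul, zpow_natCast, hj4, _root_.one_zpow]
  have : Finite (Sp m F ⧸ PP m F) := inferInstance
  obtain ⟨x, hx⟩ := hZ.nonempty_fixed_point_of_prime_not_dvd_card (Sp m F ⧸ PP m F) (by
    rw [← Subgroup.index_eq_card]
    exact hcon)
  obtain ⟨y, rfl⟩ := QuotientGroup.mk_surjective x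
  have h1 : j • (QuotientGroup.mk y : Sp m F ⧸ PP m F) = QuotientGroup.mk y :=
    hx ⟨j, Subgroup.mem_zpowers j⟩
  have h2 : (QuotientGroup.mk (j * y) : Sp m F ⧸ PP m F) = QuotientGroup.mk y := h1
  have h3 : y⁻¹ * (j * y) ∈ PP m F := QuotientGroup.eq.1 h2.symm
  -- the square is `-1`
  set g : Sp m F := y⁻¹ * (j * y) with hg
  have hg2 : (g * g).1 = -1 := by
    have e : g * g = y⁻¹ * ((j * j) * y) := by rw [hg]; group
    rw [e]
    show (y⁻¹ : Sp m F).1 * ((j * j).1 * y.1) = -1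
    rw [hj2, Matrix.neg_mul, Matrix.one_mul, Matrix.mul_neg]
    have : (y⁻¹ : Sp m F).1 * y.1 = 1 := congrArg Subtype.val (inv_mul_cancel y)
    rw [this]
  have h4 : (dt ⟨g, h3⟩ * dt ⟨g, h3⟩ : Fˣ) = dt (⟨g, h3⟩ * ⟨g, h3⟩) := (map_mul _ _ _).symm
  have h5 : ((dt (⟨g, h3⟩ * ⟨g, h3⟩) : Fˣ) : F) = -1 := by
    rw [dt_apply]
    show ((g * g).1.toBlocks₁₁).det = -1
    rw [hg2, ← Matrix.fromBlocks_one, Matrix.fromBlocks_neg, Matrix.toBlocks_fromBlocks₁₁, Matrix.det_neg,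
      Matrix.det_one, Fintype.card_fin, hm.neg_one_pow, mul_one]
  apply hns
  refine ⟨(dt ⟨g, h3⟩ : Fˣ), ?_⟩
  rw [← h5, ← h4, Units.val_mul]

/-- a character of the multiplicative group -/
theorem exists_theta {p : ℕ} [Fact p.Prime] (hp2 : p ≠ 2) (hd : p ∣ Fintype.card F - 1) :
    ∃ (θ : Fˣ →* ℂˣ) (k : ℕ), (∀ t, θ t ^ p ^ k = 1) ∧ ∃ c, θ c ≠ θ c⁻¹ := by
  classical
  obtain ⟨c, hc⟩ := exists_prime_orderOf_dvd_card' (G := Fˣ) p (by rw [Nat.card_units, Nat.card_eq_fintype_card]; exact hd)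
  have hc1 : c ≠ 1 := by
    rintro rfl
    rw [orderOf_one] at hc
    exact (Fact.out : p.Prime).one_lt.ne hc
  obtain ⟨lam0, h0⟩ := CommGroup.exists_apply_ne_one_of_hasEnoughRootsOfUnity Fˣ ℂ hc1
  obtain ⟨a, n, hn, han⟩ := Nat.exists_eq_pow_mul_and_not_dvd (n := Nat.card Fˣ) Nat.card_pos.ne' p
    (Fact.out : p.Prime).ne_one
  let θ : Fˣ →* ℂˣ := lam0 ^ n
  have hθ : ∀ t, θ t = lam0 t ^ n := fun t => rfl
  refine ⟨θ, a, fun t => ?_, c, ?_⟩
  · rw [hθ, ← pow_mul, mul_comm, ← han, ← map_pow, pow_card_eq_one', map_one]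
  · intro h
    apply h0
    rw [map_inv] at h
    have h1 : θ c ^ 2 = 1 := by
      rw [pow_two]
      nth_rewrite 1 [h]
      exact inv_mul_cancel _
    rw [hθ, ← pow_mul] at h1
    have h2 : lam0 c ^ p = 1 := by rw [← map_pow, ← hc, pow_orderOf_eq_one, map_one]
    have h3 : Nat.Coprime (n * 2) p := by
      refine Nat.Coprime.mul_left ?_ ?_
      · exact ((Nat.Prime.coprime_iff_not_dvd Fact.out).2 hn).symm
      · exact (Nat.coprime_primes Nat.prime_two Fact.out).2 hp2.symm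
    exact orderOf_eq_one_iff.1 (Nat.eq_one_of_dvd_coprimes h3 (orderOf_dvd_of_pow_eq_one h1) (orderOf_dvd_of_pow_eq_one h2))

theorem evAt_sp {p : ℕ} [Fact p.Prime] (hp2 : p ≠ 2) (hm : Odd m) (hq : Fintype.card F % 4 = 3)
    (hd : p ∣ Fintype.card F - 1) : EvAt p (Sp m F) := by
  obtain ⟨θ, k, hk, c, hc⟩ := exists_theta (F := F) hp2 hd
  refine evAt_of_ind (PP m F) (θ.comp dt) (k := k) (fun t => hk _) (fun x hx => ?_) (two_dvd_index hm hq)
  obtain ⟨g, h1, h2, e1, e2⟩ := exists_hyp hx c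
  refine ⟨g, h1, h2, ?_⟩
  rw [MonoidHom.comp_apply, MonoidHom.comp_apply, e1, e2]
  exact hc

/-- **`p ∣ q - 1`** -/
theorem evAt_split {p : ℕ} [Fact p.Prime] (hp2 : p ≠ 2) (hm : Odd m) (hq : Fintype.card F % 4 = 3)
    (hd : p ∣ Fintype.card F - 1) : EvAt p (PSp m F) := by
  have hfin : Finite (PSp m F) := Quotient.finite _
  refine evAt_quot (QuotientGroup.mk' (Subgroup.center (Matrix.symplecticGroup (Fin m) F)))
    (QuotientGroup.mk'_surjective _) ?_ (evAt_sp hp2 hm hq hd)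
  rw [QuotientGroup.ker_mk']
  intro h
  obtain ⟨z, hz⟩ := exists_prime_orderOf_dvd_card' p h
  have h1 : orderOf z ∣ 2 := orderOf_dvd_of_pow_eq_one (Subtype.ext (Cfsg.Agent.H188.EP.center_sq z.2))
  rw [hz] at h1
  exact hp2 ((Nat.prime_dvd_prime_iff_eq Fact.out Nat.prime_two).1 h1)

end sp

end Cfsg.Agent.H298.EP
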