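import Cfsg.Agent.H298.EP.Mid
import Cfsg.Agent.H298.EP.Siegel
import Cfsg.Agent.H652.EP.Own

/-!
# S4929: the row `PSp_{2m}(q)`, `m` odd, `q ≡ 3 mod 4` (helper298, task 5324)
-/

set_option autoImplicit false
set_option linter.unusedSectionVars false

open Cfsg Cfsg.Agent.H892.EP

namespace Cfsg.Agent.H298.EP

/-- **the row `PSp_{2m}(q)`, `m` odd, `q ≡ 3 mod 4`** -/
theorem row_psp3 (F : Type) [Field F] [Fintype F] (m : ℕ) (hm : 3 ≤ m) (ho : Odd m) (hq : Fintype.card F % 4 = 3) :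
    Ev (PSp m F) := by
  intro p hp hp2 hd
  have : Fact p.Prime := ⟨hp⟩
  have hfin : Finite (PSp m F) := Quotient.finite _
  obtain ⟨r, hr⟩ := CharP.exists F
  have hr' : r.Prime := CharP.char_is_prime F r
  have : Fact r.Prime := ⟨hr'⟩
  have hr2 : r ≠ 2 := by
    rintro rfl
    obtain ⟨n, -, hn⟩ := FiniteField.card F 2
    rw [hn] at hq
    have h1 : 2 ∣ 2 ^ (n : ℕ) := dvd_pow_self 2 n.ne_zero
    omega
  by_cases hpr : p = r
  · subst hpr
    exact Cfsg.Agent.H652.EP.evAt_own hp2 (Or.inr (Or.inl ⟨F, inferInstance, inferInstance, hr, m, by omega,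
      fun h => by omega, ⟨MulEquiv.refl _⟩⟩))
  · by_cases h1 : ∀ i, 0 < i → i ≤ m → ¬ p ∣ Fintype.card F ^ i - 1
    · exact Cfsg.Agent.H188.EP.rest_psp hp2 hpr (by omega) hd h1
    · classical
      have hex : ∃ i, 0 < i ∧ p ∣ Fintype.card F ^ i - 1 := by
        push Not at h1
        obtain ⟨i, hi, -, hi2⟩ := h1
        exact ⟨i, hi, hi2⟩
      obtain ⟨hd0, hd1⟩ := Nat.find_spec hex
      have hmin : ∀ i, 0 < i → i < Nat.find hex → ¬ p ∣ Fintype.card F ^ i - 1 :=
        fun i hi hlt h => Nat.find_min hex hlt ⟨hi, h⟩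
      have hle : Nat.find hex ≤ m := by
        by_contra hcon
        apply h1
        intro i hi him
        exact hmin i hi (by omega)
      by_cases h2 : Nat.find hex = 1
      · rw [h2, pow_one] at hd1
        exact evAt_split hp2 ho hq hd1
      · exact evAt_mid hr2 hm ho (d := Nat.find hex) (by omega) hle hd1 hmin

end Cfsg.Agent.H298.EP
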