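import Cfsg.Agent.H298.EP.VPar
import Cfsg.Agent.H396.CommTab1
import Cfsg.Agent.H188.EP.RestPsp

/-!
# The root group datum of `PSp_{2m}(q)` and the matrix groups (helper298, task 5324, S4929)

* `even_of_noFix` : `m` odd, `χ` without fixed vectors of the radical `V_K` of the parabolic subgroup of the last node
  (the long simple root): `χ(1)` is even.
* `rep_last` : no conjugate of the last simple root is a root of a set of nodes without the last node.
-/

set_option autoImplicit false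
set_option linter.unusedSectionVars false

open Matrix Cfsg Cfsg.Agent.Characters.Core Cfsg.Agent.H892.EP
open Cfsg.Agent.H65.EP Cfsg.Agent.H65.EP.PSp

namespace Cfsg.Agent.H298.EP

open Cfsg.Agent.ChevalleyStructure.CoxeterGeom Cfsg.Agent.Tits.Roots Cfsg.Agent.Tits.Core
  Cfsg.Agent.Nodes Cfsg.Agent.Nodes.Reps Cfsg.Agent.Nodes.BNOf Cfsg.Agent.Nodes.StabComb
  Cfsg.Agent.Nodes.Bruhat Cfsg.Agent.Nodes.OppDec Cfsg.Agent.Nodes.LeviDec
  Cfsg.Agent.Nodes.TypeC Cfsg.Agent.Nodes.WittRoot Cfsg.Agent.TitsThree Cfsg.Agent.TitsThree.WittFrame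

open Cfsg.Agent.TitsThree.SpIdent (form frame e f toSp isos mat coe_toSp toPSp)

section comb

variable {n : ℕ}

/-- partial sums of the `ε`-coordinates -/
theorem sum_ee (x : Fin n → ℤ) (m : Fin n) :
    ∑ k ∈ Finset.Iic m, ee x k = (if (m : ℕ) + 1 < n then 1 else 2) * x m := by
  have h1 : ∀ k, ee x k = ∑ j, x j * bt j k := by
    intro k
    simp [ee, Finset.sum_apply]
  simp only [h1]
  rw [Finset.sum_comm]
  simp only [← Finset.mul_sum, sum_bt]
  rw [Finset.sum_eq_single m]
  · simp only [if_true]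
    split_ifs <;> ring
  · intro j _ hj
    simp [Ne.symm hj]
  · simp

theorem sum_wt (a : Fin n × Bool) (m : Fin n) :
    ∑ k ∈ Finset.Iic m, wt a k = if a.1 ≤ m then (if a.2 then 1 else -1) else 0 := by
  simp only [wt, Finset.sum_pi_single', Finset.mem_Iic]

variable {W : Type*} [Group W] {cs : CoxeterSystem (CoxeterMatrix.B n) W}

/-- positive roots in `ε`-coordinates -/
theorem exists_pair {x : Fin n → ℤ} (hx : IsRoot cs (isCartan n) x) (h0 : 0 ≤ x) :
    ∃ (i : Fin n) (b : Fin n × Bool), Ok (i, true) b ∧ i ≤ b.1 ∧ ee x = wt (i, true) + wt b := by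
  have key : ∀ a b : Fin n × Bool, Ok a b → a.1 ≤ b.1 → ee x = wt a + wt b →
      ∃ (i : Fin n) (b : Fin n × Bool), Ok (i, true) b ∧ i ≤ b.1 ∧ ee x = wt (i, true) + wt b := by
    rintro ⟨i, s⟩ b hab hle e
    refine ⟨i, b, ?_⟩
    have h1 := sum_ee x i
    have hxi : 0 ≤ x i := h0 i
    have h2 : ∑ k ∈ Finset.Iic i, ee x k = ∑ k ∈ Finset.Iic i, wt (i, s) k + ∑ k ∈ Finset.Iic i, wt b k := by
      rw [← Finset.sum_add_distrib]
      exact Finset.sum_congr rfl fun k _ => by rw [e, Pi.add_apply]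
    rw [h2, sum_wt, sum_wt] at h1
    have hs : s = true := by
      cases s
      · exfalso
        rcases hab with hne | rfl
        · have hlt : i < b.1 := lt_of_le_of_ne hle hne
          rw [if_neg (not_le.2 hlt)] at h1
          simp only [le_refl, if_true, Bool.false_eq_true, if_false, add_zero] at h1
          split_ifs at h1 <;> omega
        · simp only [le_refl, if_true, Bool.false_eq_true, if_false] at h1
          split_ifs at h1 <;> omega
      · rfl
    subst hs
    exact ⟨hab, hle, e⟩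
  obtain ⟨a, b, hab, e⟩ := exists_of_isRoot cs hx
  rcases le_total a.1 b.1 with h1 | h1
  · exact key a b hab h1 e
  · exact key b a hab.symm h1 (by rw [e, add_comm])

/-- the conjugates of the last simple root -/
theorem exists_two (w : W) (l : Fin n) (hl : ¬ (l : ℕ) + 1 < n) : ∃ a : Fin n × Bool, ee (rep cs (isCartan n) w (sr l)) = wt a + wt a := by
  induction w using cs.simple_induction_left with
  | one =>
    rw [map_one, Module.End.one_apply]
    refine ⟨(l, true), ?_⟩
    rw [ee_sr, bt]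
    unfold nx
    rw [dif_neg hl]
  | mul_simple_left w j ih =>
    obtain ⟨a, h⟩ := ih
    exact ⟨sg j a, by rw [rep_mul_apply, rep_simple, ee_refl_of h]⟩

theorem rep_last (w : W) (l : Fin n) (hl : ¬ (l : ℕ) + 1 < n) : rep cs (isCartan n) w (sr l) l ≠ 0 := by
  intro h0
  obtain ⟨a, ha⟩ := exists_two (cs := cs) w l hl
  have h1 := sum_ee (rep cs (isCartan n) w (sr l)) l
  have h2 : ∑ k ∈ Finset.Iic l, ee (rep cs (isCartan n) w (sr l)) k = ∑ k ∈ Finset.Iic l, wt a k + ∑ k ∈ Finset.Iic l, wt a k := by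
    rw [← Finset.sum_add_distrib]
    exact Finset.sum_congr rfl fun k _ => by rw [ha, Pi.add_apply]
  rw [h2, sum_wt, h0, mul_zero] at h1
  have hle : a.1 ≤ l := by
    rw [Fin.le_def]
    have := a.1.2
    omega
  rw [if_pos hle] at h1
  split_ifs at h1 <;> omega

end comb

section mat

variable {F : Type} [Field F] [Fintype F] {k : ℕ}

/-- the Weyl element `e_i ↦ f_i ↦ - e_i` -/
def ww (k : ℕ) (F : Type) [Field F] [Fintype F] : Sp (k + 1) F := ⟨fromBlocks 0 1 (-1) 0, by
  rw [SymplecticGroup.fromBlocks_mem_iff]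
  simp⟩

def ww' (k : ℕ) (F : Type) [Field F] [Fintype F] : Sp (k + 1) F := ⟨fromBlocks 0 (-1) 1 0, by
  rw [SymplecticGroup.fromBlocks_mem_iff]
  simp⟩

theorem ww_inv : (ww k F)⁻¹ = ww' k F := by
  rw [inv_eq_iff_mul_eq_one]
  apply Subtype.ext
  show fromBlocks 0 1 (-1) 0 * fromBlocks 0 (-1) 1 0 = (1 : Matrix (Fin (k + 1) ⊕ Fin (k + 1)) (Fin (k + 1) ⊕ Fin (k + 1)) F)
  rw [Matrix.fromBlocks_multiply, ← Matrix.fromBlocks_one]
  simp

/-- the criterion for membership in the conjugate of `VV` -/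
theorem conj_mem_VV (g : isos (form (k + 1) F)) (h1 : ∀ i j, g.1 (e (k + 1) F j) (Sum.inl i) = 0)
    (h2 : ∀ j, g.1 (e (k + 1) F j) (Sum.inr j) = 1) (h3 : ∀ i j, j < i → g.1 (e (k + 1) F j) (Sum.inr i) = 0)
    (h4 : g.1 (f (k + 1) F (Fin.last k)) (Sum.inr (Fin.last k)) = 0) :
    ww k F * toSp g * (ww k F)⁻¹ ∈ VV k F := by
  have hmat : ∀ a b, (toSp g : Sp (k + 1) F).1 a b = g.1 (Pi.single b 1) a := by
    intro a b
    rw [coe_toSp, mat, LinearMap.toMatrix'_apply]
    congr 2
  set A := (toSp g : Sp (k + 1) F).1.toBlocks₁₁ with hA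
  set C := (toSp g : Sp (k + 1) F).1.toBlocks₂₁ with hC
  set D := (toSp g : Sp (k + 1) F).1.toBlocks₂₂ with hD
  have hB : (toSp g : Sp (k + 1) F).1.toBlocks₁₂ = 0 := by
    ext i j
    show (toSp g : Sp (k + 1) F).1 (Sum.inl i) (Sum.inr j) = 0
    rw [hmat]
    exact h1 i j
  have hg : (toSp g : Sp (k + 1) F).1 = fromBlocks A 0 C D := by
    rw [hA, hC, hD, ← hB, Matrix.fromBlocks_toBlocks]
  have e1 : (ww k F * toSp g * (ww k F)⁻¹).1 = fromBlocks D (-C) 0 A := by
    rw [ww_inv]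
    show fromBlocks 0 1 (-1) 0 * (toSp g : Sp (k + 1) F).1 * fromBlocks 0 (-1) 1 0 = _
    rw [hg, Matrix.fromBlocks_multiply, Matrix.fromBlocks_multiply]
    simp
  refine mem_VV.2 ⟨⟨D, -C, A, e1, ?_, ?_⟩, ?_⟩
  · intro i
    show (toSp g : Sp (k + 1) F).1 (Sum.inr i) (Sum.inr i) = 1
    rw [hmat]
    exact h2 i
  · intro i j hij
    show (toSp g : Sp (k + 1) F).1 (Sum.inr i) (Sum.inr j) = 0
    rw [hmat]
    exact h3 i j hij
  · rw [e1, Matrix.fromBlocks_apply₁₂, Matrix.neg_apply, neg_eq_zero]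
    show (toSp g : Sp (k + 1) F).1 (Sum.inr (Fin.last k)) (Sum.inl (Fin.last k)) = 0
    rw [hmat]
    exact h4

theorem e_inl (i j : Fin (k + 1)) : e (k + 1) F j (Sum.inl i) = 0 := by
  rw [e, Pi.single_eq_of_ne (by simp)]

theorem e_inr (i j : Fin (k + 1)) : e (k + 1) F j (Sum.inr i) = if i = j then 1 else 0 := by
  rw [e, Pi.single_apply]
  simp

theorem f_inl (i j : Fin (k + 1)) : f (k + 1) F j (Sum.inl i) = if i = j then 1 else 0 := by
  rw [f, Pi.single_apply]
  simp

theorem f_inr (i j : Fin (k + 1)) : f (k + 1) F j (Sum.inr i) = 0 := by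
  rw [f, Pi.single_eq_of_ne (by simp)]

theorem mem_of_rg {W : Type*} [Group W] {cs : CoxeterSystem (CoxeterMatrix.B (k + 1)) W} {x : Fin (k + 1) → ℤ}
    (hx : x ∈ NotJ cs (isCartan (k + 1)) {Fin.last k}) (g : isos (form (k + 1) F)) (hg : g.1 ∈ rg (frame (k + 1) F) x) :
    ww k F * toSp g * (ww k F)⁻¹ ∈ VV k F := by
  obtain ⟨hr, h0, j0, hj0, hj1⟩ := hx
  obtain ⟨i, b, hib, hle, ex⟩ := exists_pair hr h0
  rw [rg_eq (frame (k + 1) F) hib ex] at hg
  have hlast : ¬ (((Fin.last k : Fin (k + 1)) : ℕ) + 1 < k + 1) := by simp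
  rcases hib with hne | rfl
  · have hlt : i < b.1 := lt_of_le_of_ne hle hne
    have hne' : (((i, true) : Fin (k + 1) × Bool)).1 ≠ b.1 := hne
    rw [PG_ne (frame (k + 1) F) hne'] at hg
    obtain ⟨t, ht⟩ := hg
    obtain ⟨j, s⟩ := b
    simp only at hlt hne hle
    cases s
    · -- `e_j ↦ e_j + t e_i`
      have hE : ∀ l, l ≠ j → g.1 (e (k + 1) F l) = e (k + 1) F l := by
        intro l hl
        rw [ht]
        exact WittWeyl.X_apply_of_ne (frame (k + 1) F) (z := (l, true)) hne' (by simp [WittFrame.neg])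
          (by simp only [WittFrame.neg, ne_eq, Prod.mk.injEq, not_and]; exact fun h => absurd h hl) t
      have hE' : g.1 (e (k + 1) F j) = e (k + 1) F j + t • e (k + 1) F i := by
        rw [ht]
        exact WittWeyl.X_apply_neg (frame (k + 1) F) hne' t
      refine conj_mem_VV g ?_ ?_ ?_ ?_
      · intro a l
        by_cases hl : l = j
        · subst hl
          rw [hE', Pi.add_apply, Pi.smul_apply, e_inl, e_inl, smul_zero, add_zero]
        · rw [hE l hl, e_inl]
      · intro l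
        by_cases hl : l = j
        · subst hl
          rw [hE', Pi.add_apply, Pi.smul_apply, e_inr, e_inr, if_pos rfl, if_neg (Ne.symm hne), smul_zero, add_zero]
        · rw [hE l hl, e_inr, if_pos rfl]
      · intro a l hal
        by_cases hl : l = j
        · subst hl
          rw [hE', Pi.add_apply, Pi.smul_apply, e_inr, e_inr, if_neg hal.ne', if_neg (hlt.trans hal).ne', smul_zero, add_zero]
        · rw [hE l hl, e_inr, if_neg hal.ne']
      · have hil : (Fin.last k) ≠ i := (lt_of_lt_of_le hlt (Fin.le_last j)).ne'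
        have e1 : g.1 (f (k + 1) F (Fin.last k)) = f (k + 1) F (Fin.last k) := by
          rw [ht]
          exact WittWeyl.X_apply_of_ne (frame (k + 1) F) (z := (Fin.last k, false)) hne'
            (by simp only [WittFrame.neg, ne_eq, Prod.mk.injEq, not_and]; exact fun h => absurd h hil)
            (by simp [WittFrame.neg]) t
        rw [e1, f_inr]
    · -- `f_j ↦ f_j + t e_i`
      have hE : ∀ l, g.1 (e (k + 1) F l) = e (k + 1) F l := by
        intro l
        rw [ht]
        exact WittWeyl.X_apply_of_ne (frame (k + 1) F) (z := (l, true)) hne' (by simp [WittFrame.neg]) (by simp [WittFrame.neg]) t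
      refine conj_mem_VV g (fun a l => by rw [hE, e_inl]) (fun l => by rw [hE, e_inr, if_pos rfl])
        (fun a l hal => by rw [hE, e_inr, if_neg hal.ne']) ?_
      have hil : (Fin.last k) ≠ i := (lt_of_lt_of_le hlt (Fin.le_last j)).ne'
      by_cases hj : Fin.last k = j
      · subst hj
        have e1 : g.1 (f (k + 1) F (Fin.last k)) = f (k + 1) F (Fin.last k) + t • e (k + 1) F i := by
          rw [ht]
          exact WittWeyl.X_apply_neg (frame (k + 1) F) hne' t
        rw [e1, Pi.add_apply, Pi.smul_apply, f_inr, e_inr, if_neg hil, smul_zero, add_zero]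
      · have e1 : g.1 (f (k + 1) F (Fin.last k)) = f (k + 1) F (Fin.last k) := by
          rw [ht]
          exact WittWeyl.X_apply_of_ne (frame (k + 1) F) (z := (Fin.last k, false)) hne'
            (by simp only [WittFrame.neg, ne_eq, Prod.mk.injEq, not_and]; exact fun h => absurd h hil)
            (by simp only [WittFrame.neg, ne_eq, Prod.mk.injEq, not_and]; exact fun h => absurd h hj) t
        rw [e1, f_inr]
  · -- `f_i ↦ f_i + c e_i`, `i ≠ last`
    have hil : Fin.last k ≠ i := by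
      rintro rfl
      apply hj0
      have e1 : ee x = ee (sr (Fin.last k)) := by
        rw [ex, ee_sr, bt]
        unfold nx
        rw [dif_neg hlast]
      have e2 := ee_injective e1
      by_contra hne
      rw [e2, sr_ne hne] at hj1
      exact lt_irrefl _ hj1
    rw [PG_self] at hg
    obtain ⟨q, hq⟩ := hg
    have hE : ∀ l, g.1 (e (k + 1) F l) = e (k + 1) F l := by
      intro l
      rw [hq]
      exact WittWeyl.Z_apply_of_ne (frame (k + 1) F) (x := (i, true)) (z := (l, true)) (by simp [WittFrame.neg]) q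
    refine conj_mem_VV g (fun a l => by rw [hE, e_inl]) (fun l => by rw [hE, e_inr, if_pos rfl])
      (fun a l hal => by rw [hE, e_inr, if_neg hal.ne']) ?_
    have e1 : g.1 (f (k + 1) F (Fin.last k)) = f (k + 1) F (Fin.last k) := by
      rw [hq]
      exact WittWeyl.Z_apply_of_ne (frame (k + 1) F) (x := (i, true)) (z := (Fin.last k, false))
        (by simp only [WittFrame.neg, ne_eq, Prod.mk.injEq, not_and]; exact fun h => absurd h hil) q
    rw [e1, f_inr]

/-- **characters of `PSp_{2m}(q)`, `m` odd, without `V`-fixed vectors have even degree** -/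
theorem even_of_noFix {r : ℕ} [Fact r.Prime] [CharP F r] (hr : r ≠ 2) (hk : 0 < k) (hk2 : Even k)
    {W : Type*} [Group W] (cs : CoxeterSystem (CoxeterMatrix.B (k + 1)) W) (χ : IrrCharacter (PSp (k + 1) F))
    (hχ : NoFix (VJ cs (isCartan (k + 1)) (WittModel.X (KInstSp.model (k + 1) F)) {Fin.last k}) (χ : PSp (k + 1) F → ℂ)) :
    2 ∣ charDegree (χ : PSp (k + 1) F → ℂ) := by
  have hfin : Finite (PSp (k + 1) F) := Quotient.finite _
  let q : Sp (k + 1) F →* PSp (k + 1) F := QuotientGroup.mk' (Subgroup.center (Matrix.symplecticGroup (Fin (k + 1)) F))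
  obtain ⟨z, hz⟩ := main_VV hr hk hk2 (isCharacter_comp q (isIrr_isCharacter χ.2))
  have hV : VJ cs (isCartan (k + 1)) (WittModel.X (KInstSp.model (k + 1) F)) {Fin.last k} ≤
      (VV k F).map (q.comp (MulAut.conj (ww k F)⁻¹).toMonoidHom) := by
    refine RGD.Sup_le fun x hx => ?_
    intro y hy
    obtain ⟨g, hg, hgx, rfl⟩ := (WittModel.mem_X (KInstSp.model (k + 1) F)).1 hy
    have h1 := mem_of_rg (F := F) hx ⟨g, hg⟩ hgx
    refine ⟨_, h1, ?_⟩
    show q ((ww k F)⁻¹ * (ww k F * toSp ⟨g, hg⟩ * (ww k F)⁻¹) * (ww k F)⁻¹⁻¹) = toPSp ⟨g, hg⟩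
    have e1 : (ww k F)⁻¹ * (ww k F * toSp ⟨g, hg⟩ * (ww k F)⁻¹) * (ww k F)⁻¹⁻¹ = toSp ⟨g, hg⟩ := by group
    rw [e1]
    rfl
  obtain ⟨n, ρ, hρ, hρχ⟩ := χ.2
  let ρ' : Representation ℂ (Sp (k + 1) F) (Fin n → ℂ) := ρ.comp q
  have hρ' : ρ'.character = (χ : PSp (k + 1) F → ℂ) ∘ q := by
    funext x
    show ρ.character (q x) = (χ : PSp (k + 1) F → ℂ) (q x)
    rw [hρχ]
  have h0 : md (VV k F) ((χ : PSp (k + 1) F → ℂ) ∘ q) = 0 := by
    by_contra hne
    rw [← hρ'] at hne
    obtain ⟨v, hv, hfix⟩ := (md_ne_zero_iff ρ' (VV k F)).1 hne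
    rw [← hρχ] at hχ
    refine not_noFix ρ (w := ρ (q (ww k F)⁻¹) v) ?_ (fun y hy => ?_) hχ
    · intro h1
      apply hv
      have h2 := congrArg (ρ (q (ww k F))) h1
      rw [map_zero, ← Module.End.mul_apply, ← map_mul, ← map_mul, mul_inv_cancel, map_one, map_one,
        Module.End.one_apply] at h2
      exact h2
    · obtain ⟨x, hx, rfl⟩ := hV hy
      have h2 : ρ (q x) v = v := hfix x hx
      show ρ (q ((ww k F)⁻¹ * x * (ww k F)⁻¹⁻¹)) (ρ (q (ww k F)⁻¹) v) = _
      rw [← Module.End.mul_apply, ← map_mul, ← map_mul]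
      have e1 : (ww k F)⁻¹ * x * (ww k F)⁻¹⁻¹ * (ww k F)⁻¹ = (ww k F)⁻¹ * x := by group
      rw [e1, map_mul, map_mul, Module.End.mul_apply, h2]
  rw [h0, zero_sub] at hz
  have h1 : ((χ : PSp (k + 1) F → ℂ) ∘ q) 1 = (charDegree (χ : PSp (k + 1) F → ℂ) : ℂ) := by
    rw [Function.comp_apply, map_one, Cfsg.Agent.Blocks.Basic.irr_one_eq_charDegree χ.2]
  rw [h1] at hz
  have h2 : ((charDegree (χ : PSp (k + 1) F → ℂ) : ℤ) : ℂ) = ((-(2 * z) : ℤ) : ℂ) := by
    push_cast
    linear_combination -hz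
  have h3 : (charDegree (χ : PSp (k + 1) F → ℂ) : ℤ) = -(2 * z) := by exact_mod_cast h2
  have h4 : (2 : ℤ) ∣ (charDegree (χ : PSp (k + 1) F → ℂ) : ℤ) := ⟨-z, by rw [h3]; ring⟩
  exact_mod_cast h4

end mat

end Cfsg.Agent.H298.EP
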