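import Cfsg.Agent.H65.EP.PuPsp

/-!
# `χ(1) ≡ dim χ^V mod 2` for `Sp_{2m}(q)`, `m` odd, `V` the product of the positive root groups other than `X_{2 e_m}`
(helper298, task 5324, S4929)
-/

set_option autoImplicit false
set_option linter.unusedSectionVars false

open Matrix Cfsg Cfsg.Agent.Characters.Core Cfsg.Agent.H892.EP
open Cfsg.Agent.H65.EP Cfsg.Agent.H65.EP.PSp

namespace Cfsg.Agent.H298.EP

section mat

variable {F : Type} [Field F] {m : ℕ}

theorem isUT_right {A D : Matrix (Fin m) (Fin m) F} (hA : IsUT A) (h : A * D = 1) : IsUT D := by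
  have hD : D = A⁻¹ := (Matrix.inv_eq_right_inv h).symm
  have : Invertible A := A.invertibleOfIsUnitDet (by rw [hA.det]; exact isUnit_one)
  have hbt : D.BlockTriangular id := by
    rw [hD]
    exact Matrix.blockTriangular_inv_of_blockTriangular hA.bt
  have h0 : ∀ i j, j < i → D i j = 0 := fun i j hij => hbt hij
  refine ⟨fun i => ?_, h0⟩
  have h1 := congrFun (congrFun h i) i
  rw [Matrix.mul_apply, Finset.sum_eq_single i, hA.1, one_mul, Matrix.one_apply_eq] at h1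
  · exact h1
  · intro j _ hj
    rcases lt_or_gt_of_ne hj with hlt | hgt
    · rw [hA.2 i j hlt, zero_mul]
    · rw [h0 j i hgt, mul_zero]
  · intro hn
    exact absurd (Finset.mem_univ i) hn

end mat

variable (k : ℕ) (F : Type) [Field F] [Fintype F]

theorem last_mul {k : ℕ} {F : Type} [Field F] [Fintype F] {g h : Sp (k + 1) F} (hg : g ∈ UU (k + 1) F) (hh : h ∈ UU (k + 1) F) :
    (g * h).1 (Sum.inl (Fin.last k)) (Sum.inr (Fin.last k)) =
      g.1 (Sum.inl (Fin.last k)) (Sum.inr (Fin.last k)) + h.1 (Sum.inl (Fin.last k)) (Sum.inr (Fin.last k)) := by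
  obtain ⟨A, B, D, hg1, hA⟩ := hg
  obtain ⟨A', B', D', hh1, hA'⟩ := hh
  have hD' : IsUT D'ᵀ := by
    have h1 := rel hh1
    have h2 : D'ᵀ * A' = 1 := by
      rw [← Matrix.transpose_transpose A', ← Matrix.transpose_mul, h1, Matrix.transpose_one]
    exact isUT_right hA' (mul_eq_one_comm.1 h2)
  have e : (g * h).1 = g.1 * h.1 := rfl
  rw [e, hg1, hh1, Matrix.fromBlocks_multiply]
  simp only [Matrix.fromBlocks_apply₁₂, Matrix.add_apply]
  have e1 : (A * B') (Fin.last k) (Fin.last k) = B' (Fin.last k) (Fin.last k) := by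
    rw [Matrix.mul_apply, Finset.sum_eq_single (Fin.last k), hA.1, one_mul]
    · intro j _ hj
      rw [hA.2 _ j (lt_of_le_of_ne (Fin.le_last j) hj), zero_mul]
    · simp
  have e2 : (B * D') (Fin.last k) (Fin.last k) = B (Fin.last k) (Fin.last k) := by
    rw [Matrix.mul_apply, Finset.sum_eq_single (Fin.last k)]
    · have := hD'.1 (Fin.last k)
      rw [Matrix.transpose_apply] at this
      rw [this, mul_one]
    · intro j _ hj
      have := hD'.2 (Fin.last k) j (lt_of_le_of_ne (Fin.le_last j) hj)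
      rw [Matrix.transpose_apply] at this
      rw [this, mul_zero]
    · simp
  rw [e1, e2, add_comm]

/-- the product of the positive root groups other than `X_{2 e_m}` -/
def VV : Subgroup (Sp (k + 1) F) := ofSub
  { carrier := {g | g ∈ UU (k + 1) F ∧ g.1 (Sum.inl (Fin.last k)) (Sum.inr (Fin.last k)) = 0}
    one_mem' := ⟨one_mem _, by
      show (1 : Matrix (Fin (k + 1) ⊕ Fin (k + 1)) (Fin (k + 1) ⊕ Fin (k + 1)) F) _ _ = 0
      rw [Matrix.one_apply_ne Sum.inl_ne_inr]⟩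
    mul_mem' := by
      rintro g h ⟨hg, hg0⟩ ⟨hh, hh0⟩
      refine ⟨mul_mem hg hh, ?_⟩
      rw [last_mul hg hh, hg0, hh0, add_zero] }

/-- the radical of the Siegel parabolic subgroup of `Sp_{2(m-1)}` -/
def QV : Subgroup (Sp (k + 1) F) := ofSub
  { carrier := {g | ∃ B, g.1 = fromBlocks 1 B 0 1 ∧ (∀ i, B i (Fin.last k) = 0) ∧ ∀ i, B (Fin.last k) i = 0}
    one_mem' := ⟨0, (Matrix.fromBlocks_one).symm, fun _ => rfl, fun _ => rfl⟩
    mul_mem' := by
      rintro g h ⟨B, hg, hB1, hB2⟩ ⟨B', hh, hB1', hB2'⟩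
      refine ⟨B' + B, ?_, fun i => by rw [Matrix.add_apply, hB1, hB1', add_zero],
        fun i => by rw [Matrix.add_apply, hB2, hB2', add_zero]⟩
      show g.1 * h.1 = _
      rw [hg, hh, Matrix.fromBlocks_multiply]
      simp }

/-- the product of the `X_{2 e_i}`, `i < m` -/
def CV : Subgroup (Sp (k + 1) F) := ofSub
  { carrier := {g | g ∈ CC (k + 1) F ∧ g.1 (Sum.inl (Fin.last k)) (Sum.inr (Fin.last k)) = 0}
    one_mem' := ⟨one_mem _, by
      show (1 : Matrix (Fin (k + 1) ⊕ Fin (k + 1)) (Fin (k + 1) ⊕ Fin (k + 1)) F) _ _ = 0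
      rw [Matrix.one_apply_ne Sum.inl_ne_inr]⟩
    mul_mem' := by
      rintro g h ⟨hg, hg0⟩ ⟨hh, hh0⟩
      refine ⟨mul_mem hg hh, ?_⟩
      rw [last_mul (QQ_le_UU (CC_le_QQ hg)) (QQ_le_UU (CC_le_QQ hh)), hg0, hh0, add_zero] }

variable {k F}

theorem mem_VV {g : Sp (k + 1) F} :
    g ∈ VV k F ↔ g ∈ UU (k + 1) F ∧ g.1 (Sum.inl (Fin.last k)) (Sum.inr (Fin.last k)) = 0 := Iff.rfl

theorem mem_QV {g : Sp (k + 1) F} :
    g ∈ QV k F ↔ ∃ B, g.1 = fromBlocks 1 B 0 1 ∧ (∀ i, B i (Fin.last k) = 0) ∧ ∀ i, B (Fin.last k) i = 0 := Iff.rfl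

theorem mem_CV {g : Sp (k + 1) F} :
    g ∈ CV k F ↔ g ∈ CC (k + 1) F ∧ g.1 (Sum.inl (Fin.last k)) (Sum.inr (Fin.last k)) = 0 := Iff.rfl

theorem TT_le_VV : TT (k + 1) F ≤ Subgroup.normalizer (VV k F : Set (Sp (k + 1) F)) := by
  refine le_normalizer ?_
  rintro t ht g ⟨hg, hg0⟩
  refine ⟨(Subgroup.mem_normalizer_iff.1 (TT_le_UU ht) g).1 hg, ?_⟩
  obtain ⟨ε, hε, ht⟩ := ht
  obtain ⟨A, B, D, hg1, hA⟩ := hg
  rw [conj_TT hε ht hg1, Matrix.fromBlocks_apply₁₂, dd_apply]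
  rw [hg1, Matrix.fromBlocks_apply₁₂] at hg0
  rw [hg0, mul_zero, zero_mul]

theorem TT_le_QV : TT (k + 1) F ≤ Subgroup.normalizer (QV k F : Set (Sp (k + 1) F)) := by
  refine le_normalizer ?_
  rintro t ⟨ε, hε, ht⟩ g ⟨B, hg, hB1, hB2⟩
  refine ⟨_, by rw [conj_TT hε ht hg, Matrix.mul_zero, Matrix.zero_mul, dd_one hε], fun i => ?_, fun i => ?_⟩
  · rw [dd_apply, hB1, mul_zero, zero_mul]
  · rw [dd_apply, hB2, mul_zero, zero_mul]

theorem mem_CV_VV (h2 : (2 : F) ≠ 0) (x : Sp (k + 1) F) :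
    x ∈ CV k F ↔ x ∈ VV k F ∧ ∀ a ∈ TT (k + 1) F, a * x = x * a := by
  rw [mem_CV, mem_VV, mem_CC_UU h2]
  tauto

theorem CV_le_QV : CV k F ≤ QV k F := by
  rintro g ⟨⟨B, hg, hB⟩, h0⟩
  rw [hg, Matrix.fromBlocks_apply₁₂] at h0
  refine ⟨B, hg, fun i => ?_, fun i => ?_⟩
  · by_cases hi : i = Fin.last k
    · rw [hi, h0]
    · exact hB _ _ hi
  · by_cases hi : i = Fin.last k
    · rw [hi, h0]
    · exact hB _ _ (Ne.symm hi)

theorem QV_le_VV : QV k F ≤ VV k F := by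
  rintro g ⟨B, hg, hB1, -⟩
  refine ⟨⟨1, B, 1, hg, isUT_one⟩, ?_⟩
  rw [hg, Matrix.fromBlocks_apply₁₂, hB1]

theorem mem_CV_QV (h2 : (2 : F) ≠ 0) (x : Sp (k + 1) F) :
    x ∈ CV k F ↔ x ∈ QV k F ∧ ∀ a ∈ TT (k + 1) F, a * x = x * a := by
  constructor
  · exact fun h => ⟨CV_le_QV h, ((mem_CV_VV h2 x).1 h).2⟩
  · exact fun h => (mem_CV_VV h2 x).2 ⟨QV_le_VV h.1, h.2⟩

/-- `diag(X, 1)` -/
theorem exists_X' {r : ℕ} [Fact r.Prime] [CharP F r] (hr : r ≠ 2) (hk : 0 < k) (hk2 : Even k) :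
    ∃ (X : Matrix (Fin (k + 1)) (Fin (k + 1)) F) (N : ℕ), X ^ 2 ^ N = 1 ∧
      (∀ j, X (Fin.last k) j = if j = Fin.last k then 1 else 0) ∧
      ∀ B : Matrix (Fin (k + 1)) (Fin (k + 1)) F, (∀ i, B i (Fin.last k) = 0) → (∀ i, B (Fin.last k) i = 0) →
        X * B * Xᵀ = B → B = 0 := by
  obtain ⟨X, N, hN, hX⟩ := exists_X (F := F) (r := r) hr hk (Or.inl hk2)
  let e : Fin k ⊕ Fin 1 ≃ Fin (k + 1) := finSumFinEquiv
  have he1 : ∀ i : Fin k, e (Sum.inl i) = i.castSucc := fun i => rfl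
  have he2 : ∀ i : Fin 1, e (Sum.inr i) = Fin.last k := fun i => by
    apply Fin.ext
    show k + (i : ℕ) = k
    have := i.2
    omega
  have hs1 : ∀ i : Fin k, e.symm i.castSucc = Sum.inl i := fun i => by rw [← he1, Equiv.symm_apply_apply]
  have hs2 : e.symm (Fin.last k) = Sum.inr 0 := by rw [← he2 0, Equiv.symm_apply_apply]
  have hpow : ∀ n : ℕ, (Matrix.reindex e e (fromBlocks X 0 0 1)) ^ n = Matrix.reindex e e (fromBlocks (X ^ n) 0 0 1) := by
    intro n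
    induction n with
    | zero =>
      rw [pow_zero, pow_zero, Matrix.fromBlocks_one]
      simp
    | succ n ih =>
      rw [pow_succ, ih, Matrix.reindex_apply, Matrix.reindex_apply, Matrix.submatrix_mul_equiv,
        Matrix.fromBlocks_multiply, Matrix.reindex_apply]
      simp [pow_succ]
  refine ⟨Matrix.reindex e e (fromBlocks X 0 0 1), N, ?_, ?_, ?_⟩
  · rw [hpow, hN, Matrix.fromBlocks_one]
    simp
  · intro j
    rw [Matrix.reindex_apply, Matrix.submatrix_apply, hs2]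
    induction j using Fin.lastCases with
    | last => rw [hs2, if_pos rfl, Matrix.fromBlocks_apply₂₂, Matrix.one_apply_eq]
    | cast i => rw [hs1, if_neg (Fin.castSucc_lt_last i).ne, Matrix.fromBlocks_apply₂₁, Matrix.zero_apply]
  · intro B hB1 hB2 h
    let B0 : Matrix (Fin k) (Fin k) F := B.submatrix Fin.castSucc Fin.castSucc
    have hB : B = Matrix.reindex e e (fromBlocks B0 0 0 0) := by
      ext i j
      rw [Matrix.reindex_apply, Matrix.submatrix_apply]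
      induction i using Fin.lastCases with
      | last =>
        rw [hs2, hB2]
        induction j using Fin.lastCases with
        | last => rw [hs2, Matrix.fromBlocks_apply₂₂]; rfl
        | cast j => rw [hs1, Matrix.fromBlocks_apply₂₁]; rfl
      | cast i =>
        rw [hs1]
        induction j using Fin.lastCases with
        | last => rw [hs2, Matrix.fromBlocks_apply₁₂, hB1]; rfl
        | cast j => rw [hs1, Matrix.fromBlocks_apply₁₁]; rfl
    have h1 : X * B0 * Xᵀ = B0 := by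
      rw [hB, Matrix.reindex_apply, Matrix.reindex_apply, Matrix.transpose_submatrix, Matrix.submatrix_mul_equiv,
        Matrix.submatrix_mul_equiv, Matrix.fromBlocks_transpose, Matrix.fromBlocks_multiply,
        Matrix.fromBlocks_multiply] at h
      have h3 : fromBlocks (X * B0 * Xᵀ) 0 0 0 = (fromBlocks B0 0 0 0 : Matrix (Fin k ⊕ Fin 1) (Fin k ⊕ Fin 1) F) := by
        have h4 := congrArg (fun Z : Matrix (Fin (k + 1)) (Fin (k + 1)) F => Z.submatrix e e) h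
        simpa using h4
      exact (Matrix.fromBlocks_inj.1 h3).1
    rw [hB, hX B0 h1]
    simp

/-- the element `a` of the Levi complement -/
theorem exists_av {r : ℕ} [Fact r.Prime] [CharP F r] (hr : r ≠ 2) (hk : 0 < k) (hk2 : Even k) :
    ∃ a : Sp (k + 1) F, (∃ N, a ^ 2 ^ N = 1) ∧ (∀ x ∈ QV k F, a * x * a⁻¹ ∈ QV k F) ∧
      ∀ x ∈ QV k F, a * x = x * a → x = 1 := by
  obtain ⟨X, N, hN, hXl, hX⟩ := exists_X' (F := F) (r := r) hr hk hk2
  have hu : IsUnit X := IsUnit.of_pow_eq_one hN (by positivity)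
  have hdet := (Matrix.isUnit_iff_isUnit_det X).1 hu
  have hY : Xᵀ * (X⁻¹)ᵀ = 1 := by
    rw [← Matrix.transpose_mul, Matrix.nonsing_inv_mul _ hdet, Matrix.transpose_one]
  have hY' : (X⁻¹)ᵀ * Xᵀ = 1 := by
    rw [← Matrix.transpose_mul, Matrix.mul_nonsing_inv _ hdet, Matrix.transpose_one]
  have key : ∀ (x : Sp (k + 1) F) (B : Matrix (Fin (k + 1)) (Fin (k + 1)) F), x.1 = fromBlocks 1 B 0 1 →
      (lev X (X⁻¹)ᵀ hY * x).1 = fromBlocks X (X * B) 0 (X⁻¹)ᵀ := by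
    intro x B hx
    show fromBlocks X 0 0 (X⁻¹)ᵀ * x.1 = _
    rw [hx, Matrix.fromBlocks_multiply]
    simp
  have key2 : ∀ (x : Sp (k + 1) F) (B : Matrix (Fin (k + 1)) (Fin (k + 1)) F), x.1 = fromBlocks 1 B 0 1 →
      (x * lev X (X⁻¹)ᵀ hY).1 = fromBlocks X (B * (X⁻¹)ᵀ) 0 (X⁻¹)ᵀ := by
    intro x B hx
    show x.1 * fromBlocks X 0 0 (X⁻¹)ᵀ = _
    rw [hx, Matrix.fromBlocks_multiply]
    simp
  refine ⟨lev X (X⁻¹)ᵀ hY, ⟨N, ?_⟩, ?_, ?_⟩
  · have e : ∀ n : ℕ, (lev X (X⁻¹)ᵀ hY ^ n).1 = fromBlocks (X ^ n) 0 0 (((X⁻¹)ᵀ) ^ n) := by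
      intro n
      induction n with
      | zero => rw [pow_zero, pow_zero, pow_zero]; exact (Matrix.fromBlocks_one).symm
      | succ n ih =>
        rw [pow_succ, pow_succ, pow_succ]
        show (lev X (X⁻¹)ᵀ hY ^ n).1 * fromBlocks X 0 0 (X⁻¹)ᵀ = _
        rw [ih, Matrix.fromBlocks_multiply]
        simp
    apply Subtype.ext
    rw [e, hN, ← Matrix.transpose_pow, Matrix.inv_pow', hN]
    simp
  · rintro x ⟨B, hx, hB1, hB2⟩
    have hs : Bᵀ = B := by
      have h1 := x.2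
      rw [hx, SymplecticGroup.fromBlocks_mem_iff] at h1
      simpa using h1.2.1
    have hs2 : (X * B * Xᵀ)ᵀ = X * B * Xᵀ := by
      rw [Matrix.transpose_mul, Matrix.transpose_mul, Matrix.transpose_transpose, hs, Matrix.mul_assoc]
    have : lev X (X⁻¹)ᵀ hY * x * (lev X (X⁻¹)ᵀ hY)⁻¹ = nn (X * B * Xᵀ) hs2 := by
      rw [mul_inv_eq_iff_eq_mul]
      apply Subtype.ext
      rw [key x B hx, key2 _ _ rfl, Matrix.mul_assoc (X * B), hY, Matrix.mul_one]
    rw [this]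
    have hcol : ∀ i, (X * B * Xᵀ) i (Fin.last k) = 0 := by
      intro i
      rw [Matrix.mul_apply]
      refine Finset.sum_eq_zero fun j _ => ?_
      rw [Matrix.transpose_apply, hXl]
      by_cases hj : j = Fin.last k
      · rw [hj, if_pos rfl, mul_one, Matrix.mul_apply]
        exact Finset.sum_eq_zero fun l _ => by rw [hB1, mul_zero]
      · rw [if_neg hj, mul_zero]
    refine ⟨_, rfl, hcol, fun i => ?_⟩
    rw [← hs2, Matrix.transpose_apply]
    exact hcol i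
  · rintro x ⟨B, hx, hB1, hB2⟩ hc
    have h1 := congrArg Subtype.val hc
    rw [key x B hx, key2 x B hx] at h1
    obtain ⟨-, h3, -, -⟩ := Matrix.fromBlocks_inj.1 h1
    have h4 : X * B * Xᵀ = B := by
      rw [h3, Matrix.mul_assoc, hY', Matrix.mul_one]
    apply Subtype.ext
    rw [hx, hX B hB1 hB2 h4]
    exact Matrix.fromBlocks_one

theorem isPGroup_VV {r : ℕ} [Fact r.Prime] [CharP F r] : IsPGroup r (VV k F) :=
  (isPGroup_UU (m := k + 1) (F := F) (r := r)).to_le fun _ h => h.1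

theorem isPGroup_QV {r : ℕ} [Fact r.Prime] [CharP F r] : IsPGroup r (QV k F) :=
  (isPGroup_VV (k := k) (F := F) (r := r)).to_le QV_le_VV

/-- **`χ(1) ≡ dim χ^V mod 2`** -/
theorem main_VV {r : ℕ} [Fact r.Prime] [CharP F r] (hr : r ≠ 2) (hk : 0 < k) (hk2 : Even k) {χ : Sp (k + 1) F → ℂ}
    (hχ : IsCharacter (Sp (k + 1) F) χ) : ∃ z : ℤ, md (VV k F) χ - χ 1 = 2 * z := by
  have h2 : (2 : F) ≠ 0 := two_ne (r := r) hr
  obtain ⟨a, ⟨N, hN⟩, ha1, ha2⟩ := exists_av (F := F) (r := r) hr hk hk2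
  obtain ⟨z1, h1⟩ := parity (TT (k + 1) F) isPGroup_TT hχ _ (VV k F) (CV k F) rfl
    (odd_of_isPGroup hr (isPGroup_VV (r := r))) TT_le_VV (mem_CV_VV h2)
  obtain ⟨z2, h3⟩ := parity (TT (k + 1) F) isPGroup_TT hχ _ (QV k F) (CV k F) rfl
    (odd_of_isPGroup hr (isPGroup_QV (r := r))) TT_le_QV (mem_CV_QV h2)
  have hA : IsPGroup 2 (Subgroup.zpowers a) := by
    rintro ⟨_, j, rfl⟩
    refine ⟨N, Subtype.ext ?_⟩
    show (a ^ j) ^ 2 ^ N = 1
    rw [← zpow_natCast, ← _root_.zpow_mul, mul_comm, _root_.zpow_mul, zpow_natCast, hN, _root_.one_zpow]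
  obtain ⟨z3, h4⟩ := parity_one (QV k F) (Subgroup.zpowers a) (odd_of_isPGroup hr (isPGroup_QV (r := r))) hA
    (by rw [Subgroup.zpowers_le]; exact mem_normalizer ha1)
    (fun u hu h => ha2 u hu (h a (Subgroup.mem_zpowers a))) hχ
  refine ⟨z1 - z2 + z3, ?_⟩
  push_cast
  linear_combination h1 - h3 + h4

end Cfsg.Agent.H298.EP
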